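import Cfsg.Agent.SP.Mon.PA.Fi
import Cfsg.Agent.SP.Mon.L3.Iface
import Cfsg.Agent.SP.Mon.NL.TwoA
import Cfsg.Agent.OddOrderCharacters.Wielandt

/-! # S5755, the Monster: the boxes `PL` and `P27` (helper76)

A `3A`-pure group `⟨x, y⟩` of order nine maps to the class `X 0` of `Fi24' = C(x) / ⟨x⟩`. -/

set_option autoImplicit false
set_option maxRecDepth 100000
set_option linter.style.haveILetI false

namespace Cfsg.Agent.SP.Mon

namespace PA

open Subgroup Cfsg
open Cfsg.Spor (Fi24)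
open Cfsg.Agent.MonsterX Cfsg.Agent.MonsterP Cfsg.Agent.LThreeMB
open Cfsg.Agent.BpSpor.MBigModel (MG zz pi chart cls)
open Cfsg.Agent.LThreeB.Row (TA)
open Cfsg.Agent.H305.SprFi24 (ct)
open Cfsg.Agent.DS.Sp.F24S (Cl cl_all card_sup_dvd zp_le_norm)

/-- Wielandt's formula for a group `3 ^ 2` (the proof of `BMx.Abs.wiel`) -/
theorem wiel {X : Type*} [Group X] [Finite X] {N E : Subgroup X} (hn : E ≤ normalizer (N : Set X))
    (hsolv : Group.IsSolvable N) (h3N : ¬ 3 ∣ Nat.card N) (hE : Nat.card E = 9) (h3 : ∀ e ∈ E, e ^ 3 = 1) {c : ℕ}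
    (hc : ∀ e ∈ E, e ≠ 1 → Nat.card ↥(N ⊓ centralizer (zpowers e : Set X)) = c) :
    Nat.card N * c ^ 24 = Nat.card ↥(N ⊓ centralizer (E : Set X)) ^ 18 * Nat.card N ^ 7 := by
  classical
  have : Fact (Nat.Prime 3) := ⟨Nat.prime_three⟩
  have : Fintype E := Fintype.ofFinite E
  have hcE : Fintype.card E = 9 := by rw [← Nat.card_eq_fintype_card, hE]
  have h := OddOrderCharacters.Wielandt.wielandt E N hn
    (by rw [hE]; exact (Nat.Coprime.pow_left 2 ((Nat.Prime.coprime_iff_not_dvd Nat.prime_three).2 h3N))) hsolv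
    (I := E) (J := Fin 2 ⊕ Fin 7) (fun e => zpowers (e : X)) (Sum.elim (fun _ => E) fun _ => ⊥)
    (fun e => zpowers_le.2 e.2) (by rintro (j | j); exacts [le_rfl, bot_le]) (by
      intro f
      by_cases hf1 : f = 1
      · subst hf1
        rw [Nat.card_congr (Equiv.subtypeUnivEquiv fun i => one_mem _),
          Nat.card_congr (Equiv.subtypeUnivEquiv fun i => one_mem _), hE]
        simp
      by_cases hfE : f ∈ E
      · have h1 : Nat.card {j : Fin 2 ⊕ Fin 7 // f ∈ Sum.elim (fun _ => E) (fun _ => (⊥ : Subgroup X)) j} = 2 := by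
          rw [Nat.card_eq_fintype_card, Fintype.card_subtype]
          have h2 : (Finset.univ.filter fun j : Fin 2 ⊕ Fin 7 =>
              f ∈ Sum.elim (fun _ => E) (fun _ => (⊥ : Subgroup X)) j) = {Sum.inl 0, Sum.inl 1} := by
            ext j
            rcases j with j | j
            · fin_cases j <;> simp [hfE]
            · simp [hf1]
          rw [h2]
          rfl
        rw [h1, Nat.card_eq_fintype_card, Fintype.card_subtype]
        have hf3 := h3 f hfE
        have h2 : (Finset.univ.filter fun i : E => f ∈ zpowers (i : X)) = {⟨f, hfE⟩, ⟨f, hfE⟩⁻¹} := by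
          ext i
          simp only [Finset.mem_filter, Finset.mem_univ, true_and, Finset.mem_insert, Finset.mem_singleton]
          constructor
          · intro hi
            rcases (H841.Tri.mem_zp3 (h3 i i.2)).1 hi with h4 | h4 | h4
            · exact absurd h4 hf1
            · exact Or.inl (Subtype.ext h4.symm)
            · exact Or.inr (Subtype.ext (by change (i : X) = f⁻¹; rw [h4, inv_inv]))
          · rintro (rfl | rfl)
            · exact mem_zpowers f
            · change f ∈ zpowers f⁻¹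
              rw [zpowers_inv]
              exact mem_zpowers f
        rw [h2, Finset.card_pair]
        intro h4
        have h5 : f = f⁻¹ := congrArg Subtype.val h4
        apply hf1
        have h6 : f * f = 1 := by nth_rewrite 2 [h5]; exact mul_inv_cancel f
        rw [pow_succ, pow_two, h6, one_mul] at hf3
        exact hf3
      · have h1 : IsEmpty {i : E // f ∈ zpowers (i : X)} := ⟨fun i => hfE (zpowers_le.2 i.1.2 i.2)⟩
        have h2 : IsEmpty {j : Fin 2 ⊕ Fin 7 // f ∈ Sum.elim (fun _ => E) (fun _ => (⊥ : Subgroup X)) j} :=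
          ⟨by rintro ⟨j | j, hj⟩; exacts [hfE hj, hf1 (mem_bot.1 hj)]⟩
        rw [Nat.card_of_isEmpty, Nat.card_of_isEmpty])
  have hb : N ⊓ centralizer ((⊥ : Subgroup X) : Set X) = N := by
    refine inf_eq_left.2 fun x _ y hy => ?_
    rw [mem_bot.1 hy, one_mul, mul_one]
  rw [Fintype.prod_sum_type] at h
  simp only [Sum.elim_inl, Sum.elim_inr, Finset.prod_const, Finset.card_univ, Fintype.card_fin, hb, card_bot, pow_one,
    hE] at h
  rw [← Finset.mul_prod_erase Finset.univ _ (Finset.mem_univ (1 : E))] at h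
  have h1 : ∏ e ∈ Finset.univ.erase (1 : E), Nat.card ↥(N ⊓ centralizer (zpowers (e : X) : Set X)) ^
      Nat.card (zpowers (e : X)) = c ^ 24 := by
    rw [Finset.prod_congr rfl (g := fun _ => c ^ 3), Finset.prod_const, Finset.card_erase_of_mem (Finset.mem_univ _),
      Finset.card_univ, hcE, ← pow_mul]
    intro e he
    have he1 : (e : X) ≠ 1 := fun h4 => (Finset.mem_erase.1 he).1 (Subtype.ext h4)
    rw [hc e e.2 he1, Nat.card_zpowers, orderOf_eq_prime (h3 e e.2) he1]
  rw [h1, OneMemClass.coe_one, zpowers_one_eq_bot, hb, card_bot, pow_one, ← pow_mul] at h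
  exact h

theorem card_dvd_hom {G H : Type*} [Group G] [Group H] {x : G} (f : centralizer ({x} : Set G) →* H)
    (hf : ∀ g, f g = 1 → (g : G) ∈ zpowers x) {Y : Subgroup G} {Z : Subgroup H}
    (hY : ∀ y ∈ Y, ∃ h : y ∈ centralizer ({x} : Set G), f ⟨y, h⟩ ∈ Z) : Nat.card Y ∣ Nat.card Z * orderOf x := by
  have hle : Y ≤ centralizer ({x} : Set G) := fun y hy => (hY y hy).1
  let φ : Y →* H := f.comp (inclusion hle)
  have h1 : Nat.card φ.ker ∣ orderOf x := by
    rw [← Nat.card_zpowers, ← card_map_of_injective (K := φ.ker) Y.subtype_injective]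
    refine card_dvd_of_le ?_
    rintro _ ⟨y, hy, rfl⟩
    exact hf _ hy
  have h2 : Nat.card φ.range ∣ Nat.card Z := card_dvd_of_le (by
    rintro _ ⟨y, rfl⟩
    exact (hY y y.2).2)
  rw [← φ.ker.card_mul_index, index_ker, mul_comm]
  exact Nat.mul_dvd_mul h2 h1

theorem T3A_pow {x : MG} (h : T3A x) : x ^ 3 = 1 := by rw [← h.1, pow_orderOf_eq_one]

theorem T3A_ne {x : MG} (h : T3A x) : x ≠ 1 := fun e => by
  have := h.1
  rw [e, orderOf_one] at this
  omega

theorem T3A_inv {x : MG} (h : T3A x) : T3A x⁻¹ := by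
  have e : centralizer ({x⁻¹} : Set MG) = centralizer {x} := by
    ext g
    rw [mem_centralizer_singleton_iff, mem_centralizer_singleton_iff]
    exact Commute.inv_right_iff
  exact ⟨by rw [orderOf_inv, h.1], by rw [e, h.2]⟩

/-- **The class `3A`**: `C(x) / ⟨x⟩ = Fi24'`. -/
theorem exists_hom_fi {x : MG} (hx : T3A x) : ∃ f : centralizer ({x} : Set MG) →* Fi24,
    (∀ g, f g = 1 ↔ (g : MG) ∈ zpowers x) ∧ (∀ g, f g ∈ commutator Fi24) ∧ ∀ u ∈ commutator Fi24, ∃ g, f g = u := by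
  obtain ⟨x', c, -, -, ⟨e⟩, rfl⟩ := hx.exists_in
  let κ : centralizer ({c * x' * c⁻¹} : Set MG) →* centralizer ({(x' : MG)} : Set MG) :=
    ((MulAut.conj c⁻¹).toMonoidHom.comp (Subgroup.subtype _)).codRestrict _ fun g => by
      rw [mem_centralizer_singleton_iff]
      show c⁻¹ * g * c⁻¹⁻¹ * x' = x' * (c⁻¹ * g * c⁻¹⁻¹)
      calc c⁻¹ * g * c⁻¹⁻¹ * x' = c⁻¹ * (g * (c * x' * c⁻¹)) * c := by group
        _ = _ := by rw [mem_centralizer_singleton_iff.1 g.2]; group
  have hκ : ∀ g, (κ g : MG) = c⁻¹ * g * c⁻¹⁻¹ := fun _ => rfl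
  refine ⟨(commutator Fi24).subtype.comp (e.toMonoidHom.comp ((QuotientGroup.mk' (Zx (x' : MG))).comp κ)),
    fun g => ?_, fun g => Subtype.prop _, fun u hu => ?_⟩
  · have h1 : (commutator Fi24).subtype.comp (e.toMonoidHom.comp ((QuotientGroup.mk' (Zx (x' : MG))).comp κ)) g = 1 ↔
        mk (x' : MG) (mem_centralizer_singleton_iff.1 (κ g).2) = 1 :=
      (map_eq_one_iff _ (commutator Fi24).subtype_injective).trans (map_eq_one_iff e e.injective)
    rw [h1, LThreeMB.mk_eq_one, hκ]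
    constructor
    · rintro ⟨i, hi⟩
      exact ⟨i, by show (c * x' * c⁻¹) ^ i = g; rw [conj_zpow, hi]; group⟩
    · rintro ⟨i, hi⟩
      have hi' : (c * x' * c⁻¹) ^ i = g := hi
      exact ⟨i, by rw [← hi', conj_zpow]; group⟩
  · obtain ⟨q, hq⟩ := QuotientGroup.mk'_surjective (Zx (x' : MG)) (e.symm ⟨u, hu⟩)
    refine ⟨⟨c * q * c⁻¹, mem_centralizer_singleton_iff.2 ?_⟩, ?_⟩
    · calc c * q * c⁻¹ * (c * x' * c⁻¹) = c * (q * x') * c⁻¹ := by group
        _ = _ := by rw [mem_centralizer_singleton_iff.1 q.2]; group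
    · show ((e (QuotientGroup.mk' (Zx (x' : MG)) (κ _)) : commutator Fi24) : Fi24) = u
      rw [show κ _ = q from Subtype.ext (by rw [hκ]; group), hq, e.apply_symm_apply]

theorem two_nine_z {E : Subgroup MG} (hE : Nat.card E = 9) (hA : ∀ e ∈ E, e ≠ 1 → T3A e)
    (hc : ∀ e ∈ E, e * zz = zz * e) : 2 ^ 9 ∣ Nat.card (centralizer (E : Set MG)) := by
  have := BpSpor.MBigModel.finite
  have : Fact (Nat.Prime 2) := ⟨Nat.prime_two⟩
  have h3 : ∀ e ∈ E, e ^ 3 = 1 := fun e he => by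
    by_cases h1 : e = 1
    · rw [h1, one_pow]
    · exact T3A_pow (hA e he h1)
  have hp : IsPGroup 2 NL.QQ := IsPGroup.of_card chart.card_Q
  have := hp.isNilpotent
  have h := wiel (N := NL.QQ) (E := E)
    (fun e he => mem_normalizer_fintype fun q hq => chart.large.conj_mem e (hc e he) q hq) inferInstance
    (by rw [chart.card_Q]; norm_num) hE h3 (c := 2 ^ 13) (fun e he h1 => by
      let x : centralizer ({zz} : Set MG) := ⟨e, mem_centralizer_singleton_iff.2 (hc e he)⟩
      have hA' : T3A (x : MG) := hA e he h1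
      have hx : orderOf x = 3 := by rw [← Subgroup.orderOf_coe, hA'.1]
      have hfr : fr (pi x) = 2 ^ 12 := by
        rcases tri_in hx with k | k | k
        · exact k.2.1
        · exact absurd hA' k.1.not_A
        · exact absurd k.1 hA'.not_C
      have h4 := card_pre chart (x := x) (Subtype.ext (h3 e he)) ⊤
      have h5 : Nat.card {v : MonsterU.Lam2.L2 // v ∈ (⊤ : AddSubgroup MonsterU.Lam2.L2) ∧ pi x • v = v} = fr (pi x) :=
        Nat.card_congr (Equiv.subtypeEquivRight fun v => and_iff_right trivial)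
      rw [h5, hfr, ← pow_succ] at h4
      rw [← h4]
      refine Nat.card_congr (Equiv.subtypeEquivRight fun q => ⟨fun hq => ⟨⟨hq.1, trivial⟩, hq.2 e (mem_zpowers e)⟩,
        fun hq => ⟨hq.1.1, ?_⟩⟩)
      rintro _ ⟨n, rfl⟩
      exact ((show Commute e q from hq.2).zpow_left n).eq)
  rw [chart.card_Q] at h
  have h2 : Nat.card (NL.QQ ⊓ centralizer (E : Set MG) : Subgroup MG) = 2 ^ 9 := by
    apply Nat.pow_left_injective (by norm_num : 18 ≠ 0)
    apply Nat.eq_of_mul_eq_mul_right (by positivity : 0 < (2 ^ 25) ^ 7)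
    show _ ^ 18 * _ = (2 ^ 9) ^ 18 * _
    rw [← h]
    simp only [← pow_mul, ← pow_add]
  rw [← h2]
  exact card_dvd_of_le inf_le_right

/-- **A `3A`-pure group of order nine commuting with a `2B`-involution.** -/
theorem two_nine {E : Subgroup MG} (hE : Nat.card E = 9) (hA : ∀ e ∈ E, e ≠ 1 → T3A e) {t : MG} (ht : orderOf t = 2)
    (hn : ¬ TA t) (hc : ∀ e ∈ E, e * t = t * e) : 2 ^ 9 ∣ Nat.card (centralizer (E : Set MG)) := by
  obtain ⟨g, rfl⟩ := (cls ht).resolve_right hn
  have h := two_nine_z (E := E.map (MulAut.conj g⁻¹).toMonoidHom) (by rw [H841.Transport.card_map, hE]) ?_ ?_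
  · rwa [coe_map, show ⇑(MulAut.conj g⁻¹).toMonoidHom = ⇑(MulAut.conj g⁻¹) from rfl, ← H841.Transport.map_centralizer,
      H841.Transport.card_map] at h
  · rintro _ ⟨e, he, rfl⟩ h1
    exact (hA e he fun h2 => h1 (by rw [h2, map_one])).conj g⁻¹
  · rintro _ ⟨e, he, rfl⟩
    show g⁻¹ * e * g⁻¹⁻¹ * zz = zz * (g⁻¹ * e * g⁻¹⁻¹)
    calc g⁻¹ * e * g⁻¹⁻¹ * zz = g⁻¹ * (e * (g * zz * g⁻¹)) * g := by group
      _ = _ := by rw [hc e he]; group

theorem card_nine {G : Type*} [Group G] [Finite G] {x y : G} (hx : orderOf x = 3) (hy : orderOf y = 3)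
    (hxy : y * x = x * y) (hn : y ∉ zpowers x) : Nat.card (zpowers x ⊔ zpowers y : Subgroup G) = 9 := by
  have h1 : Nat.card (zpowers x ⊔ zpowers y : Subgroup G) ∣ 3 ^ 2 := by
    have := card_sup_dvd (K := zpowers x) (C := zpowers y) (zp_le_norm (by
      rintro _ ⟨n, rfl⟩
      exact (show Commute y x from hxy).symm.zpow_right n))
    rwa [Nat.card_zpowers, Nat.card_zpowers, hx, hy] at this
  obtain ⟨i, hi, h2⟩ := (Nat.dvd_prime_pow Nat.prime_three).1 h1
  have h3 : ¬ Nat.card (zpowers x ⊔ zpowers y : Subgroup G) ≤ 3 := fun h =>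
    hn (eq_of_le_of_card_ge (le_sup_left : zpowers x ≤ zpowers x ⊔ zpowers y) (by rwa [Nat.card_zpowers, hx]) ▸
      mem_sup_right (mem_zpowers y))
  rw [h2] at h3 ⊢
  interval_cases i <;> simp_all

/-- **The image of `y` lies in the class `X 0`.** -/
theorem cl_zero {x y : MG} (hx : T3A x) (hxy : y * x = x * y) (hn : y ∉ zpowers x)
    (hV : ∀ v ∈ zpowers x ⊔ zpowers y, v ≠ 1 → T3A v) {f : centralizer ({x} : Set MG) →* Fi24}
    (hf : ∀ g, f g = 1 ↔ (g : MG) ∈ zpowers x) (hf1 : ∀ g, f g ∈ commutator Fi24)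
    (hf2 : ∀ u ∈ commutator Fi24, ∃ g, f g = u) : Cl 0 (f ⟨y, mem_centralizer_singleton_iff.2 hxy⟩) := by
  have := BpSpor.MBigModel.finite
  have := R08.FiTwentyFour.finite_Fi24
  have : Fact (Nat.Prime 2) := ⟨Nat.prime_two⟩
  have hy : T3A y := hV y (mem_sup_right (mem_zpowers y)) fun e => hn (e ▸ one_mem _)
  set y' : centralizer ({x} : Set MG) := ⟨y, mem_centralizer_singleton_iff.2 hxy⟩ with hy'
  have h3 : f y' ^ 3 = 1 := by rw [← map_pow, show y' ^ 3 = 1 from Subtype.ext (T3A_pow hy), map_one]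
  have h1 : f y' ≠ 1 := fun e => hn ((hf _).1 e)
  have cube : ∀ s ∈ zpowers x, s ^ 3 = 1 := by
    rintro _ ⟨n, rfl⟩
    show (x ^ n) ^ 3 = 1
    rw [← zpow_natCast, ← zpow_mul, mul_comm, zpow_mul, zpow_natCast, T3A_pow hx, one_zpow]
  have k134 : ¬ (Cl 1 (f y') ∨ Cl 3 (f y') ∨ Cl 4 (f y')) := by
    intro h
    obtain ⟨u, ⟨u1, u2, c, c1, c7⟩, uy⟩ := exists_sev h
    obtain ⟨g, rfl⟩ := hf2 u u1
    obtain ⟨c, rfl⟩ := hf2 c c1
    have e1 : f (g ^ 3) = f g := by rw [map_pow, pow_succ, pow_two, u2, one_mul]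
    have e2 : (g ^ 3) ^ 2 = 1 := by
      rw [← pow_mul, mul_comm, pow_mul]
      exact Subtype.ext (cube _ ((hf (g ^ 2)).1 (by rw [map_pow, pow_two, u2])))
    rw [← e1] at c7 uy
    generalize g ^ 3 = t at e2 c7 uy
    have e3 : t ≠ 1 := by
      rintro rfl
      simp at c7
    have e4 : orderOf (t : MG) = 2 := by rw [Subgroup.orderOf_coe, orderOf_eq_prime e2 e3]
    have e5 : ¬ TA (t : MG) := fun hT => by
      have h5 := NL.ta_mul_order hT (NL.ta_conj hT c)
      have h6 := orderOf_map_dvd f (t * (c * t * c⁻¹))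
      rw [map_mul, map_mul, map_mul, map_inv, c7, ← Subgroup.orderOf_coe] at h6
      exact absurd ((Nat.le_of_dvd (orderOf_pos _) h6).trans h5) (by norm_num)
    have tx : Commute (t : MG) x := mem_centralizer_singleton_iff.1 t.2
    have ty : Commute (t : MG) y := by
      have h5 : (t : MG) * y * (t : MG)⁻¹ * y⁻¹ ∈ zpowers x :=
        (hf (t * y' * t⁻¹ * y'⁻¹)).1 (by rw [map_mul, map_mul, map_mul, map_inv, map_inv, uy.eq]; group)
      have h6 := cube _ h5
      obtain ⟨n, hs⟩ := h5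
      have h7 : (t : MG) * t = 1 := by rw [← pow_two, ← e4, pow_orderOf_eq_one]
      have h8 : (t : MG) * y * (t : MG)⁻¹ = x ^ n * y := by rw [show x ^ n = _ from hs]; group
      have h9 : x ^ n * x ^ n = 1 := by
        apply mul_right_cancel (b := y)
        calc x ^ n * x ^ n * y = x ^ n * ((t : MG) * y * (t : MG)⁻¹) := by rw [h8, mul_assoc]
          _ = t * (x ^ n * y) * (t : MG)⁻¹ := by
            rw [← mul_assoc, ← mul_assoc, ← (tx.zpow_right n).eq, mul_assoc (t : MG)]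
          _ = (t * t) * y * ((t : MG) * t)⁻¹ := by rw [← h8]; group
          _ = 1 * y := by rw [h7]; group
      rw [← show x ^ n = _ from hs, pow_succ, pow_two, h9, one_mul] at h6
      rw [h6, one_mul] at h8
      exact mul_inv_eq_iff_eq_mul.1 h8
    have e6 := two_nine (card_nine hx.1 hy.1 hxy hn) hV e4 e5 fun e he => mem_centralizer_singleton_iff.1
      ((sup_le (zpowers_le.2 (mem_centralizer_singleton_iff.2 tx.symm.eq))
        (zpowers_le.2 (mem_centralizer_singleton_iff.2 ty.symm.eq)) : _ ≤ centralizer {(t : MG)}) he)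
    have e7 := card_dvd_hom f (fun g => (hf g).1) (Y := centralizer ((zpowers x ⊔ zpowers y : Subgroup MG) : Set MG))
      (Z := commutator Fi24 ⊓ centralizer {f y'}) fun v hv =>
        ⟨mem_centralizer_singleton_iff.2 (hv x (mem_sup_left (mem_zpowers x))).symm, hf1 _,
          mem_centralizer_singleton_iff.2 (by
            rw [← map_mul, ← map_mul]
            exact congrArg f (Subtype.ext (hv y (mem_sup_right (mem_zpowers y))).symm))⟩
    rw [hx.1] at e7
    exact ct_two_part h3 h1 h (Nat.Coprime.dvd_of_dvd_mul_right (by norm_num) (e6.trans e7))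
  have k2 : ¬ Cl 2 (f y') := by
    intro h
    obtain ⟨Q, q3, hQ⟩ := exists_Q h
    obtain ⟨x₀, -, -, hx₀, hfr₀, -⟩ := KPair.hasPair KDone.lft LThreeB.Row.cent PreUniq.MonRow.second COct.octPair
    obtain ⟨N, hN⟩ := DS.M.Con.exists_TB hx₀ hfr₀
    have hP : IsPGroup 3 ((Q.comap f).map (centralizer ({x} : Set MG)).subtype) := by
      rintro ⟨_, p, hp, rfl⟩
      refine ⟨2, Subtype.ext ?_⟩
      show (p : MG) ^ 3 ^ 2 = 1
      rw [pow_two, pow_mul]
      exact cube _ ((hf (p ^ 3)).1 (by rw [map_pow, q3 _ hp]))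
    obtain ⟨z, N', hz, hle⟩ := hN.exists_conj (by rw [BpSpor.MBigModel.card_M]; norm_num) hP
    have zx : z ∈ centralizer ({x} : Set MG) := mem_centralizer_singleton_iff.2 (mem_centralizer_singleton_iff.1
      (hle ⟨⟨x, mem_centralizer_singleton_iff.2 rfl⟩, by
        show f _ ∈ Q
        rw [(hf _).2 (mem_zpowers x)]
        exact one_mem _, rfl⟩)).symm
    obtain ⟨n, hn'⟩ := hQ (f ⟨z, zx⟩) fun q hq => by
      have h5 : q = q * q * (q * q) := by
        calc q = q ^ 3 * q := by rw [q3 q hq, one_mul]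
          _ = _ := by simp only [pow_succ, pow_zero, one_mul, mul_assoc]
      obtain ⟨p, rfl⟩ := hf2 q (h5 ▸ sq_mem _)
      refine Commute.map (Subtype.ext ?_) f
      exact (mem_centralizer_singleton_iff.1 (hle ⟨p, hq, rfl⟩)).symm
    have h5 : z * (y ^ n)⁻¹ ∈ zpowers x :=
      (hf (⟨z, zx⟩ * (y' ^ n)⁻¹)).1 (by rw [map_mul, map_inv, map_zpow, ← hn']; exact mul_inv_cancel _)
    have h6 : z ∈ zpowers x ⊔ zpowers y := by
      have := mul_mem (mem_sup_left h5 : _ ∈ zpowers x ⊔ zpowers y) (mem_sup_right (zpow_mem_zpowers y n))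
      rwa [inv_mul_cancel_right] at this
    have h7 := hz.full
    rw [(hV z h6 fun e => by have := hz.ox; rw [e, orderOf_one] at this; omega).2] at h7
    norm_num at h7
  obtain ⟨i, hi⟩ := cl_all h3 h1
  fin_cases i
  · exact hi
  · exact absurd (Or.inl hi) k134
  · exact absurd hi k2
  · exact absurd (Or.inr (Or.inl hi)) k134
  · exact absurd (Or.inr (Or.inr hi)) k134

theorem pure_of {x y : MG} (hx : T3A x) (hy : T3A y) (h1 : T3A (y * x)) (h2 : T3A (y * x⁻¹)) (hxy : y * x = x * y) :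
    ∀ v ∈ zpowers x ⊔ zpowers y, v ≠ 1 → T3A v := by
  intro v hv hv1
  have hc : Commute y x := hxy
  rw [sup_comm, H841.Ext.mem_sup_of_comm (by
    rintro _ ⟨n, rfl⟩ _ ⟨m, rfl⟩
    exact hc.zpow_zpow n m)] at hv
  obtain ⟨a, ha, b, hb, rfl⟩ := hv
  rcases (H841.Tri.mem_zp3 (T3A_pow hy)).1 ha with rfl | rfl | rfl <;>
    rcases (H841.Tri.mem_zp3 (T3A_pow hx)).1 hb with rfl | rfl | rfl
  · exact absurd (one_mul 1) hv1
  · rwa [one_mul]
  · rw [one_mul]; exact T3A_inv hx
  · rwa [mul_one]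
  · exact h1
  · exact h2
  · rw [mul_one]; exact T3A_inv hy
  · have := T3A_inv h2
    rwa [mul_inv_rev, inv_inv, ← hc.inv_left.eq] at this
  · have := T3A_inv h1
    rwa [mul_inv_rev, ← hc.inv_inv.eq] at this

end PA

open PA Subgroup Cfsg
open Cfsg.Agent.BpSpor.MBigModel (MG)

/-- **Box `PL`.** -/
theorem boxPL : BoxPL := by
  intro x y H hx hy h1 h2 hxy hn hH
  obtain ⟨f, hf, hf1, hf2⟩ := exists_hom_fi hx
  have h0 := ct_zero (cl_zero hx hxy hn (pure_of hx hy h1 h2 hxy) hf hf1 hf2)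
  have h3 := card_dvd_hom f (fun g => (hf g).1) (Y := H)
    (Z := commutator Spor.Fi24 ⊓ centralizer {f ⟨y, mem_centralizer_singleton_iff.2 hxy⟩}) fun h hh =>
      ⟨mem_centralizer_singleton_iff.2 (hH h hh).1, hf1 _, mem_centralizer_singleton_iff.2 (by
        rw [← mul_inv_eq_iff_eq_mul, ← mul_inv_eq_one, ← map_mul, ← map_inv, ← map_mul, ← map_inv, ← map_mul, hf]
        exact (hH h hh).2)⟩
  rw [hx.1, mul_comm] at h3
  exact h3.trans (Nat.mul_dvd_mul_left 3 h0)

/-- **Box `P27`.** -/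
theorem boxP27 : BoxP27 := by
  intro V hV hc
  have := BpSpor.MBigModel.finite
  have := R08.FiTwentyFour.finite_Fi24
  by_cases hb : V = ⊥
  · rw [hb, card_bot]; norm_num
  obtain ⟨⟨x, hxV⟩, hx1⟩ := ne_bot_iff_exists_ne_one.1 hb
  have hx : T3A x := hV x hxV fun h => hx1 (Subtype.ext h)
  obtain ⟨f, hf, hf1, hf2⟩ := exists_hom_fi hx
  have h1 : Nat.card ((V.subgroupOf (centralizer ({x} : Set MG))).map f) ≤ 3 := by
    refine pure_lt ?_ ?_ ?_
    · rintro _ ⟨v, hv, rfl⟩
      by_cases h : v = 1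
      · rw [h, map_one, one_pow]
      · rw [← map_pow, show v ^ 3 = 1 from Subtype.ext (T3A_pow (hV v hv fun e => h (Subtype.ext e))), map_one]
    · rintro _ ⟨v, hv, rfl⟩ _ ⟨w, hw, rfl⟩
      rw [← map_mul, ← map_mul, show v * w = w * v from Subtype.ext (hc v hv w hw)]
    · rintro _ ⟨v, hv, rfl⟩ h
      exact cl_zero hx (hc v hv x hxV) (fun e => h ((hf v).2 e))
        (fun u hu => hV u ((sup_le (zpowers_le.2 hxV) (zpowers_le.2 hv) : _ ≤ V) hu)) hf hf1 hf2
  have h2 := card_dvd_hom f (fun g => (hf g).1) (Y := V) (Z := (V.subgroupOf (centralizer ({x} : Set MG))).map f)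
    fun v hv => ⟨mem_centralizer_singleton_iff.2 (hc v hv x hxV), ⟨v, _⟩, hv, rfl⟩
  rw [hx.1] at h2
  exact (Nat.le_of_dvd (Nat.mul_pos Nat.card_pos (by norm_num)) h2).trans (by omega)

end Cfsg.Agent.SP.Mon
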