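import Cfsg.Agent.SP.Mon.PA.PL
import Cfsg.Agent.SP.Mon.NL.BoxU
import Cfsg.Agent.SP.Mon.Odd.Gen
import Cfsg.Agent.SP.NegS.Gen2

/-! # S5755, the Monster: the box `L3A` (helper76)

`V` is `3A`-pure of order nine: `|A|` divides `48 c0`, `A` has at most `12 c0` elements of order three, and a
`2A`-involution of `A` centralizes `x` or inverts an element of `V`. -/

set_option autoImplicit false
set_option maxRecDepth 100000
set_option linter.style.haveILetI false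

namespace Cfsg.Agent.SP.Mon

namespace PA

open Subgroup Cfsg
open Cfsg.Agent.BpSpor.MBigModel (MG)
open Cfsg.Agent.LThreeB.Row (TA)
open Cfsg.Agent.H995.CopEngine (AllKnown)

section General

variable {G : Type*} [Group G]

theorem fix_zp {x g s : G} (h : g * x = x * g) (hs : s ∈ zpowers x) : g * s * g⁻¹ = s := by
  obtain ⟨n, rfl⟩ := hs
  exact mul_inv_eq_iff_eq_mul.2 ((show Commute g x from h).zpow_right n).eq

/-- the elements fixing `x` and `y ⟨x⟩` -/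
def Tr (x y : G) : Subgroup G where
  carrier := {h | h * x = x * h ∧ h * y * h⁻¹ * y⁻¹ ∈ zpowers x}
  one_mem' := ⟨by group, by rw [show (1 : G) * y * 1⁻¹ * y⁻¹ = 1 by group]; exact one_mem _⟩
  mul_mem' := by
    rintro a b ⟨ha, ha'⟩ ⟨hb, hb'⟩
    refine ⟨((show Commute a x from ha).mul_left hb).eq, ?_⟩
    rw [show a * b * y * (a * b)⁻¹ * y⁻¹ = a * (b * y * b⁻¹ * y⁻¹) * a⁻¹ * (a * y * a⁻¹ * y⁻¹) by group, fix_zp ha hb']
    exact mul_mem hb' ha'
  inv_mem' := by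
    rintro a ⟨ha, ha'⟩
    have hi := (show Commute a x from ha).inv_left.eq
    refine ⟨hi, ?_⟩
    rw [show a⁻¹ * y * a⁻¹⁻¹ * y⁻¹ = a⁻¹ * (a * y * a⁻¹ * y⁻¹)⁻¹ * a⁻¹⁻¹ by group, fix_zp hi (inv_mem ha')]
    exact inv_mem ha'

theorem eq_sup [Finite G] {V : Subgroup G} (h9 : Nat.card V ≤ 9) {x y : G} (hx : x ∈ V) (hy : y ∈ V)
    (ox : orderOf x = 3) (oy : orderOf y = 3) (hxy : y * x = x * y) (hn : y ∉ zpowers x) :
    zpowers x ⊔ zpowers y = V :=
  eq_of_le_of_card_ge (sup_le (zpowers_le.2 hx) (zpowers_le.2 hy)) (by rwa [card_nine ox oy hxy hn])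

theorem mem_sup_zp {x y v : G} (hxy : y * x = x * y) (hv : v ∈ zpowers x ⊔ zpowers y) :
    ∃ a ∈ zpowers x, ∃ b ∈ zpowers y, v = a * b :=
  (H841.Ext.mem_sup_of_comm (by
    rintro _ ⟨n, rfl⟩ _ ⟨m, rfl⟩
    exact (show Commute y x from hxy).symm.zpow_zpow n m)).1 hv

theorem tr_cases {x y h : G} (y3 : y ^ 3 = 1) (hxy : y * x = x * y) (hn : y ∉ zpowers x) (hx : h * x = x * h)
    (hy : h * y * h⁻¹ ∈ zpowers x ⊔ zpowers y) : h ∈ Tr x y ∨ h * y * h⁻¹ * y ∈ zpowers x := by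
  obtain ⟨a, ha, b, hb, e⟩ := mem_sup_zp hxy hy
  rcases (H841.Tri.mem_zp3 y3).1 hb with rfl | rfl | rfl
  · refine absurd ?_ hn
    have h1 := fix_zp (show Commute h x from hx).inv_left.eq ha
    rw [mul_one] at e
    rw [← e, show h⁻¹ * (h * y * h⁻¹) * h⁻¹⁻¹ = y by group] at h1
    rwa [h1, e]
  · exact Or.inl ⟨hx, by rwa [e, mul_inv_cancel_right]⟩
  · exact Or.inr (by rwa [e, inv_mul_cancel_right])

theorem mul_mem_Tr {x y a b : G} (ha : a * x = x * a) (hb : b * x = x * b)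
    (ha' : a * y * a⁻¹ * y ∈ zpowers x) (hb' : b * y * b⁻¹ * y ∈ zpowers x) (hxy : y * x = x * y) : a * b ∈ Tr x y := by
  refine ⟨((show Commute a x from ha).mul_left hb).eq, ?_⟩
  rw [show a * b * y * (a * b)⁻¹ * y⁻¹ = a * (b * y * b⁻¹ * y) * a⁻¹ * (y * (a * y * a⁻¹ * y)⁻¹ * y⁻¹) by group,
    fix_zp ha hb', fix_zp hxy (inv_mem ha')]
  exact mul_mem hb' (inv_mem ha')

theorem card_dvd_Tr {H : Subgroup G} {x y : G} (hxy : y * x = x * y)
    (h : ∀ a ∈ H, a * x = x * a ∧ (a ∈ Tr x y ∨ a * y * a⁻¹ * y ∈ zpowers x)) :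
    Nat.card H ∣ 2 * Nat.card (Tr x y) := by
  have h1 : (Tr x y).relIndex H ∣ 2 := by
    refine index_dvd_two_iff.2 ?_
    by_cases h2 : ∃ a : H, (a : G) * y * (a : G)⁻¹ * y ∈ zpowers x
    · obtain ⟨a, ha⟩ := h2
      refine ⟨a, fun b => ?_⟩
      rcases (h b b.2).2 with h3 | h3
      · exact Or.inr h3
      · exact Or.inl (mul_mem_Tr (h b b.2).1 (h a a.2).1 h3 ha hxy)
    · exact ⟨1, fun b => Or.inr ((h b b.2).2.resolve_right fun h3 => h2 ⟨b, h3⟩)⟩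
  rw [← NegS.card_inf_mul_relIndex H (Tr x y), mul_comm]
  exact Nat.mul_dvd_mul h1 (card_dvd_of_le inf_le_right)

theorem rep_four {x y v : G} (x3 : x ^ 3 = 1) (y3 : y ^ 3 = 1) (hxy : y * x = x * y) (hv : v ∈ zpowers x ⊔ zpowers y)
    (h1 : v ≠ 1) : ∃ s, (s = x ∨ s = y ∨ s = x * y ∨ s = x⁻¹ * y) ∧ (v = s ∨ v = s⁻¹) := by
  have hc : Commute y x := hxy
  obtain ⟨a, ha, b, hb, rfl⟩ := mem_sup_zp hxy hv
  rcases (H841.Tri.mem_zp3 x3).1 ha with e | e | e <;> rcases (H841.Tri.mem_zp3 y3).1 hb with e' | e' | e' <;>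
    rw [e, e'] at h1 ⊢
  · exact absurd (one_mul 1) h1
  · exact ⟨y, by simp, Or.inl (one_mul _)⟩
  · exact ⟨y, by simp, Or.inr (one_mul _)⟩
  · exact ⟨x, by simp, Or.inl (mul_one _)⟩
  · exact ⟨x * y, by simp, Or.inl rfl⟩
  · exact ⟨x⁻¹ * y, by simp, Or.inr (by rw [mul_inv_rev, inv_inv, hc.inv_left.eq])⟩
  · exact ⟨x, by simp, Or.inr (mul_one _)⟩
  · exact ⟨x⁻¹ * y, by simp, Or.inl rfl⟩
  · exact ⟨x * y, by simp, Or.inr (by rw [mul_inv_rev, hc.inv_inv.eq])⟩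

omit [Group G] in
theorem ncard_le_four [Finite G] {Y : Set G} (F : G → Set G) {a b c d : G} {n : ℕ}
    (hF : ∀ s, (s = a ∨ s = b ∨ s = c ∨ s = d) → (F s).ncard ≤ n)
    (hY : ∀ g ∈ Y, ∃ s, (s = a ∨ s = b ∨ s = c ∨ s = d) ∧ g ∈ F s) : Y.ncard ≤ 4 * n := by
  have h1 : Y ⊆ F a ∪ (F b ∪ (F c ∪ F d)) := fun g hg => by
    obtain ⟨s, rfl | rfl | rfl | rfl, hs⟩ := hY g hg
    · exact Or.inl hs
    · exact Or.inr (Or.inl hs)
    · exact Or.inr (Or.inr (Or.inl hs))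
    · exact Or.inr (Or.inr (Or.inr hs))
  have h2 := Set.ncard_le_ncard h1 (Set.toFinite _)
  have h3 := Set.ncard_union_le (F a) (F b ∪ (F c ∪ F d))
  have h4 := Set.ncard_union_le (F b) (F c ∪ F d)
  have h5 := Set.ncard_union_le (F c) (F d)
  have := hF a (by simp)
  have := hF b (by simp)
  have := hF c (by simp)
  have := hF d (by simp)
  omega

end General

theorem ncard_inv {v : MG} (hv : orderOf v = 3) : {t | TA t ∧ t * v * t⁻¹ = v⁻¹}.ncard ≤ 920808 := by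
  have := BpSpor.MBigModel.finite
  have key : ∀ t, TA t → t * v * t⁻¹ = v⁻¹ → TA (t⁻¹ * v) := fun t ht h => by
    have h1 := NL.ta_conj ht v
    have h2 : t⁻¹ = t := inv_eq_of_mul_eq_one_left (NL.ta_sq ht)
    have h3 : v ^ 3 = 1 := by rw [← hv, pow_orderOf_eq_one]
    have h4 : v * t * v⁻¹ = t⁻¹ * v := by
      calc v * t * v⁻¹ = t⁻¹ * (t * v * t⁻¹) * (t * t) * v⁻¹ := by group
        _ = t⁻¹ * v * (v ^ 3)⁻¹ := by rw [h, NL.ta_sq ht]; group
        _ = _ := by rw [h3]; group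
    rwa [h4] at h1
  rcases Set.eq_empty_or_nonempty {t | TA t ∧ t * v * t⁻¹ = v⁻¹} with h | ⟨t, ht, h⟩
  · rw [h, Set.ncard_empty]; norm_num
  · have h1 := NL.fst_three (Y := {t | TA t}) (fun _ h => h) ht (key t ht h) (by rwa [mul_inv_cancel_left])
    rw [mul_inv_cancel_left] at h1
    exact le_trans (Set.ncard_le_ncard (fun u hu => And.intro hu.1 (key u hu.1 hu.2)) (Set.toFinite _)) h1

theorem kb_eq : NL.KB (48 * c0) ≤ 95 * 10 ^ 10 := by decide +kernel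

theorem l3a (hK : AllKnown.{0}) (hN : BoxN3A) (hAA : BoxAA) : BoxL3A := by
  haveI : Finite MG := BpSpor.MBigModel.finite
  haveI : Fact (Nat.Prime 3) := ⟨Nat.prime_three⟩
  intro A B V h hV hA
  have ex : ∀ x ∈ V, x ≠ 1 → ∃ y ∈ V, y ∉ zpowers x := fun x hx h1 => by
    by_contra hc
    refine hN x (hA x hx h1) A B ?_ h
    rw [← le_antisymm (fun y hy => by_contra fun h2 => hc ⟨y, hy, h2⟩ : V ≤ zpowers x) (zpowers_le_of_mem hx)]
    exact hV.le_normalizer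
  have h9 := boxP27 V hA hV.comm
  have ne1 : ∀ {x y : MG}, y ∉ zpowers x → y ≠ 1 := fun h e => h (e ▸ one_mem _)
  have eqV : ∀ x ∈ V, x ≠ 1 → ∀ y ∈ V, y ∉ zpowers x → zpowers x ⊔ zpowers y = V := fun x hx h1 y hy hn =>
    eq_sup h9 hx hy (hA x hx h1).1 (hA y hy (ne1 hn)).1 (hV.comm y hy x hx) hn
  have hT : ∀ x ∈ V, x ≠ 1 → ∀ y ∈ V, y ∉ zpowers x → Nat.card (Tr x y) ∣ 3 * c0 := fun x hx h1 y hy hn =>
    boxPL x y _ (hA x hx h1) (hA y hy (ne1 hn))
      (hA _ (V.mul_mem hy hx) fun e => hn (eq_inv_of_mul_eq_one_left e ▸ inv_mem (mem_zpowers x)))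
      (hA _ (V.mul_mem hy (V.inv_mem hx)) fun e => hn (mul_inv_eq_one.1 e ▸ mem_zpowers x))
      (hV.comm y hy x hx) hn fun _ h => h
  have hcs : ∀ x ∈ V, x ≠ 1 → ∀ y ∈ V, y ∉ zpowers x → ∀ a ∈ A, a * x = x * a →
      a ∈ Tr x y ∨ a * y * a⁻¹ * y ∈ zpowers x := fun x hx h1 y hy hn a ha hc =>
    tr_cases (hV.pow y hy) (hV.comm y hy x hx) hn hc (by rw [eqV x hx h1 y hy hn]; exact hV.norm a ha y hy)
  obtain ⟨x, hx, x1⟩ := NegS.exists_ne_one hV.ne_bot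
  obtain ⟨y, hy, hn⟩ := ex x hx x1
  have hxy := hV.comm y hy x hx
  have c9 : Nat.card V = 9 := by rw [← eqV x hx x1 y hy hn, card_nine (hA x hx x1).1 (hA y hy (ne1 hn)).1 hxy hn]
  have rep : ∀ v ∈ V, v ≠ 1 → ∃ s, (s = x ∨ s = y ∨ s = x * y ∨ s = x⁻¹ * y) ∧ (v = s ∨ v = s⁻¹) := fun v hv h1 =>
    rep_four (hV.pow x hx) (hV.pow y hy) hxy (by rwa [eqV x hx x1 y hy hn]) h1
  have repV : ∀ s, (s = x ∨ s = y ∨ s = x * y ∨ s = x⁻¹ * y) → s ∈ V ∧ s ≠ 1 := by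
    rintro s (rfl | rfl | rfl | rfl)
    · exact ⟨hx, x1⟩
    · exact ⟨hy, ne1 hn⟩
    · exact ⟨V.mul_mem hx hy, fun e => hn (eq_inv_of_mul_eq_one_right e ▸ inv_mem (mem_zpowers x))⟩
    · exact ⟨V.mul_mem (V.inv_mem hx) hy, fun e => hn (inv_mul_eq_one.1 e ▸ mem_zpowers x)⟩
  -- the order of `A`
  have hd : Nat.card A ∣ 48 * c0 := by
    have h1 := Odd.card_dvd_mul (A := A) (X := (V : Set MG) \ {1}) (c := 2 * (3 * c0))
      (fun a ha v hv => ⟨hV.norm a ha v hv.1, NegS.conj_ne_one hv.2⟩) fun v hv => by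
        obtain ⟨u, hu, hn'⟩ := ex v hv.1 hv.2
        refine (card_dvd_Tr (hV.comm u hu v hv.1) fun a ha => ?_).trans
          (Nat.mul_dvd_mul_left 2 (hT v hv.1 hv.2 u hu hn'))
        exact ⟨mem_centralizer_singleton_iff.1 ha.2, hcs v hv.1 hv.2 u hu hn' a ha.1 (mem_centralizer_singleton_iff.1 ha.2)⟩
    have h2 := NegS.ncard_diff_one V
    rw [c9] at h2
    rw [show ((V : Set MG) \ {1}).ncard = 8 by omega] at h1
    exact h1
  obtain ⟨B', -, hB⟩ := h.exists_max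
  rcases NegS.two_or_odd hB with h2 | ⟨r, hr, h2, hr'⟩
  · have ha : {t | t ∈ A ∧ TA t}.ncard ≤ 7 * 10 ^ 9 + 4 * 920808 := by
      have h3 := ncard_le_four (Y := {t | t ∈ A ∧ TA t ∧ t * x ≠ x * t}) (fun s => {t | TA t ∧ t * s * t⁻¹ = s⁻¹})
        (fun s hs => ncard_inv (hA s (repV s hs).1 (repV s hs).2).1) (by
          rintro t ⟨h3, h4, h5⟩
          have h6 := hV.norm t h3 x hx
          have h7 : t * (x * (t * x * t⁻¹)⁻¹) * t⁻¹ = (x * (t * x * t⁻¹)⁻¹)⁻¹ := by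
            calc t * (x * (t * x * t⁻¹)⁻¹) * t⁻¹ = t * x * t⁻¹ * ((t * t) * x⁻¹ * (t * t)⁻¹) := by group
              _ = _ := by rw [NL.ta_sq h4]; group
          obtain ⟨s, hs, e⟩ := rep _ (V.mul_mem hx (V.inv_mem h6)) fun e =>
            h5 (mul_inv_eq_iff_eq_mul.1 (mul_inv_eq_one.1 e).symm)
          refine ⟨s, hs, h4, ?_⟩
          rcases e with e | e
          · rwa [e] at h7
          · rw [e, inv_inv] at h7
            exact inv_injective (by rw [inv_inv]; exact Eq.trans (by group) h7))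
      refine le_trans (Set.ncard_le_ncard (t := {t | TA t ∧ t * x = x * t} ∪ {t | t ∈ A ∧ TA t ∧ t * x ≠ x * t})
        (fun t ht => ?_) (Set.toFinite _)) ((Set.ncard_union_le _ _).trans (Nat.add_le_add (hAA x (hA x hx x1)) h3))
      by_cases h4 : t * x = x * t
      · exact Or.inl ⟨ht.2, h4⟩
      · exact Or.inr ⟨ht.1, ht.2, h4⟩
    have h3 := NL.two_le hB.pair (by rw [h2]) ha le_rfl
    have h4 := NL.invol_sq hK (X := A) (Y := {x | x ∈ A ∧ orderOf x = 2 ∧ ¬ TA x})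
      (fun y hy => ⟨hy.1, by rw [← pow_two, ← hy.2.1, pow_orderOf_eq_one]⟩) hd (by norm_num)
    have h5 := h3.trans (Nat.add_le_add_left (Nat.mul_le_mul_right _ (h4.trans (Nat.mul_le_mul_right _ kb_eq))) _)
    revert h5
    unfold NL.NM NL.cA NL.cB
    norm_num
  by_cases h3 : r = 3
  · subst h3
    choose! u hu using ex
    have h4 := ncard_le_four (Y := {g | g ∈ A ∧ orderOf g = 3}) (fun s => Tr s (u s)) (n := 3 * c0)
      (fun s hs => by
        obtain ⟨k1, k2⟩ := repV s hs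
        exact Nat.le_of_dvd (by norm_num) (hT s k1 k2 _ (hu s k1 k2).1 (hu s k1 k2).2)) (by
      rintro g ⟨g1, g3⟩
      obtain ⟨v, hv, v1, hc⟩ := NegS.exists_cent (D := zpowers g) Nat.prime_three
        (IsPGroup.of_card (n := 1) (by rw [Nat.card_zpowers, g3, pow_one])) ((zpowers_le.2 g1).trans hV.le_normalizer)
        (by rw [c9]; norm_num)
      have k0 : Commute g v := mem_centralizer_singleton_iff.1 (hc (mem_zpowers g))
      obtain ⟨s, hs, e⟩ := rep v hv v1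
      obtain ⟨k1, k2⟩ := repV s hs
      have k3 : Commute g s := by
        rcases e with rfl | rfl
        · exact k0
        · exact Commute.inv_right_iff.1 k0
      refine ⟨s, hs, ?_⟩
      rcases hcs s k1 k2 _ (hu s k1 k2).1 (hu s k1 k2).2 g g1 k3 with k4 | k4
      · exact k4
      · have k5 := mul_mem_Tr k3 k3 k4 k4 (hV.comm _ (hu s k1 k2).1 s k1)
        have k6 : g = g * g * (g * g) := by
          calc g = g ^ 3 * g := by rw [← g3, pow_orderOf_eq_one, one_mul]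
            _ = _ := by simp only [pow_succ, pow_zero, one_mul, mul_assoc]
        rw [k6]
        exact mul_mem k5 k5)
    have h5 := NL.three_le hK hB.pair hr' h4
    revert h5
    unfold NL.NM
    norm_num
  · have h5 : 5 ≤ r := by
      by_contra hc
      have := hr.two_le
      have h4 : r = 4 := by omega
      subst h4
      norm_num at hr
    have h4 := NL.big_le hK hB.pair hr h5 hr'
      ((ncard_le_card_subgroup fun _ hx => hx.1).trans (Nat.le_of_dvd (by norm_num) hd))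
    revert h4
    unfold NL.NM
    norm_num

end PA

/-- **Box `L3A`.** -/
theorem boxL3A (B : H940.Eng.Base) (hN : BoxN3A) (hAA : BoxAA) : BoxL3A := PA.l3a (NL.allKnown B) hN hAA

end Cfsg.Agent.SP.Mon
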