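import Cfsg.Agent.DS.Sp.F24SB
import Cfsg.Agent.SP.Mon.NL.Fi24
import Cfsg.Agent.H838.Sym
import Cfsg.Agent.H843.OCSporB
import Cfsg.Agent.H68.Dih

/-! # S5755, the Monster: the elements of order three of `Fi₂₄` (helper76)

* `ct_zero` : the class `X 0` has a centralizer of order dividing `9 * 4952179814400` in `Fi24'`;
* `ct_two_part`, `exists_sev` : the classes `X 1`, `X 3`, `X 4` have a centralizer of small 2-part in `Fi24'`, which
  contains an involution inverting an element of order 7;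
* `exists_Q` : the class `X 2`;
* `pure_lt` : no group of order nine consists of elements of the class `X 0`. -/

set_option autoImplicit false
set_option maxRecDepth 100000
set_option linter.style.haveILetI false

namespace Cfsg.Agent.SP.Mon.PA

open Subgroup Cfsg Equiv
open Cfsg.Spor (Fi24)
open Cfsg.Spor.Fi24 (Gen)
open Cfsg.Agent.R08.FiTwentyFour (L finite_Fi24 mem_commutator_iff sgn_L index_commutator)
open Cfsg.Agent.R08.TetTwo (IsTet)
open Cfsg.Agent.Fischer.Fi24Rep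
open Cfsg.Agent.Fischer.Fi24Spider (word_cons word_nil)
open Cfsg.Agent.H842.ThreeCl (X)
open Cfsg.Agent.H49.Four.TEight (fgroup24)
open Cfsg.Agent.H840.Lk (zc c2 Clk Cj Cc gen_mem not_comm_lk zc_mem c2_mem nc_zc2)
open Cfsg.Agent.H840.NormX (fd mem_cent_pair cent_mul comm_of_comm_mul)
open Cfsg.Agent.H305.SprFi24 (ct ct_conj)
open Cfsg.Agent.H48.WFour (w w_eq w_X width comm_conj)
open Cfsg.Agent.DS.Sp.F24S

theorem gcm {x y : Gen} (h : Spor.coxLabel Spor.Fi24.edges x y = 2) : Commute (gen x) (gen y) :=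
  Fischer.Fi24Class.gen_comm x y h

theorem X_one : X 1 = gen .l * gen .k * (gen .b * gen .c) := by
  show word [.l, .k, .b, .c] = _
  simp only [word_cons, word_nil, mul_one, mul_assoc]

theorem X_three : X 3 = gen .l * gen .k * (gen .b * gen .c) * (gen .e * gen .f) := by
  show word [.l, .k, .b, .c, .e, .f] = _
  simp only [word_cons, word_nil, mul_one, mul_assoc]

theorem cl_X (i : Fin 5) : Cl i (X i) := ⟨1, Or.inl (by group)⟩

theorem Cl_uniq {i j : Fin 5} {y : Fi24} (h : Cl i y) (h' : Cl j y) : i = j := by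
  obtain ⟨g, hg⟩ := h
  obtain ⟨k, hk⟩ := h'
  have h1 := (H48.OreFi.NineA.width_of hg).symm.trans (H48.OreFi.NineA.width_of hk)
  exact (show ∀ i j : Fin 5, H842.ThreeMain.wd i = H842.ThreeMain.wd j → i = j by decide) i j h1

theorem ct_inv (y : Fi24) : ct y⁻¹ = ct y := by
  have e : centralizer ({y⁻¹} : Set Fi24) = centralizer {y} := by
    ext g
    rw [mem_centralizer_singleton_iff, mem_centralizer_singleton_iff]
    exact Commute.inv_right_iff
  unfold ct
  rw [e]

theorem ct_cl {i : Fin 5} {y : Fi24} (h : Cl i y) : ct y = ct (X i) := by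
  obtain ⟨g, hg | hg⟩ := h
  · rw [← hg, ct_conj]
  · rw [← ct_inv (X i), ← hg, ct_conj]

/-- a transposition commuting with `y` -/
theorem two_mul_ct {y d : Fi24} (hd : d ∈ L) (h : Commute d y) : Nat.card (centralizer ({y} : Set Fi24)) = 2 * ct y := by
  have := finite_Fi24
  have h6 := card_eq_mul (inf_le_right : commutator Fi24 ⊓ centralizer ({y} : Set Fi24) ≤ centralizer ({y} : Set Fi24))
  rw [inf_relIndex_right] at h6
  have h7 := relIndex_dvd_index_of_normal (commutator Fi24) (centralizer ({y} : Set Fi24))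
  rw [index_commutator, Nat.dvd_prime Nat.prime_two] at h7
  rcases h7 with h7 | h7
  · have h2 := relIndex_eq_one.1 h7 (mem_centralizer_singleton_iff.2 h)
    rw [mem_commutator_iff, sgn_L hd] at h2
    exact absurd h2 (by decide)
  · rw [h6, h7]
    rfl

theorem ct_dvd (y : Fi24) : ct y ∣ Nat.card (centralizer ({y} : Set Fi24)) := card_dvd_of_le inf_le_right

/-- **The class `X 0`.** -/
theorem ct_zero {y : Fi24} (h : Cl 0 y) : ct y ∣ 9 * 4952179814400 := by
  rw [ct_cl h]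
  have h1 := H843.OCSpor.card_cent_lk_dvd
  rw [two_mul_ct (gen_mem .b) ((gcm (by decide)).mul_right (gcm (by decide)))] at h1
  exact Nat.dvd_of_mul_dvd_mul_left (by norm_num : 0 < 2) h1

/-! ### The 2-parts -/

theorem nc_bc : ¬ Commute (gen .b) (gen .c) := H833.Out24.gen_not_commute (by decide) (by decide)

theorem comm_lk_bc : Commute (gen .l * gen .k) (gen .b * gen .c) :=
  ((gcm (by decide)).mul_right (gcm (by decide))).mul_left ((gcm (by decide)).mul_right (gcm (by decide)))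

theorem inv_X_one : gen .l * gen .b * X 1 * (gen .l * gen .b)⁻¹ = (X 1)⁻¹ := by
  have h1 := H840.NormX.left_inverts (fd fgroup24) (gen_mem .l) (gen_mem .k)
  have h2 := H840.NormX.left_inverts (fd fgroup24) (gen_mem .b) (gen_mem .c)
  have h3 : Commute (gen .b) (gen .l * gen .k) := (gcm (by decide)).mul_right (gcm (by decide))
  have h4 : Commute (gen .l) (gen .b * gen .c) := (gcm (by decide)).mul_right (gcm (by decide))
  have h5 := comm_lk_bc
  rw [X_one]
  generalize gen .l * gen .k = p at h1 h3 h5 ⊢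
  generalize gen .b * gen .c = q at h2 h4 h5 ⊢
  calc gen .l * gen .b * (p * q) * (gen .l * gen .b)⁻¹
      = gen .l * ((gen .b * p) * (gen .b)⁻¹ * (gen .b * q * (gen .b)⁻¹)) * (gen .l)⁻¹ := by group
    _ = gen .l * p * (gen .l)⁻¹ * (gen .l * q⁻¹ * (gen .l)⁻¹) := by rw [h3.eq, h2]; group
    _ = (p * q)⁻¹ := by rw [h1, h4.inv_right.eq, h5.eq]; group

theorem ct_one_part {y : Fi24} (h3 : y ^ 3 = 1) (h1 : y ≠ 1) (h : Cl 1 y) : ¬ 2 ^ 9 ∣ ct y := by
  have := finite_Fi24
  obtain ⟨g, hg⟩ := id h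
  have k3 : X 1 ^ 3 = 1 := by
    rcases hg with hg | hg
    · rw [← hg, conj_pow, h3]; group
    · rw [← inv_eq_one, ← inv_pow, ← hg, conj_pow, h3]; group
  have k1 : X 1 ≠ 1 := fun e => h1 (by
    rw [e, inv_one, or_self] at hg
    calc y = g⁻¹ * (g * y * g⁻¹) * g := by group
      _ = 1 := by rw [hg]; group)
  obtain ⟨A, -, a2, -, a4⟩ := cl1 k3 k1 (cl_X 1)
  rw [ct_cl h]
  set N := normalizer ((zpowers (X 1) : Subgroup Fi24) : Set Fi24) with hN
  have e1 := card_eq_mul (inf_le_right : A ⊓ N ≤ N)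
  rw [inf_relIndex_right, a4] at e1
  have e2 : Nat.card (A ⊓ N : Subgroup Fi24) ∣ 3 ^ 7 := a2 ▸ card_dvd_of_le inf_le_left
  have e3 := H840.Lk.card_conj N (X 1)
  have e4 : ({x | ∃ y ∈ N, y * X 1 * y⁻¹ = x} : Set Fi24) = {X 1, (X 1)⁻¹} := by
    ext x
    constructor
    · rintro ⟨u, hu, rfl⟩
      exact (H841.Tri.mem_norm_zp k3 k1).1 hu
    · rintro (rfl | rfl)
      · exact ⟨1, one_mem _, by group⟩
      · exact ⟨_, (H841.Tri.mem_norm_zp k3 k1).2 (Or.inr inv_X_one), inv_X_one⟩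
  have e5 : X 1 ≠ (X 1)⁻¹ := fun e => k1 (by
    calc X 1 = X 1 ^ 3 * ((X 1)⁻¹ * (X 1)⁻¹) := by group
      _ = X 1 * (X 1)⁻¹ := by rw [k3, one_mul, ← e]
      _ = 1 := by group)
  have e6 : Commute (gen .e) (X 1) := by
    rw [X_one]
    exact ((gcm (by decide)).mul_right (gcm (by decide))).mul_right ((gcm (by decide)).mul_right (gcm (by decide)))
  rw [e4, Set.ncard_pair e5, inf_eq_right.2 (cent_le_norm _), two_mul_ct (gen_mem .e) e6] at e3
  intro hd
  have e7 : 2 * (2 * 2 ^ 9) ∣ 26127360 * 3 ^ 7 :=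
    (Nat.mul_dvd_mul_left 2 (Nat.mul_dvd_mul_left 2 hd)).trans (by rw [← e3, e1]; exact Nat.mul_dvd_mul_left _ e2)
  norm_num at e7

theorem ct_three_part {y : Fi24} (h3 : y ^ 3 = 1) (h1 : y ≠ 1) (h : Cl 3 y) : ¬ 2 ^ 9 ∣ ct y := fun hd => by
  have h2 := hd.trans ((ct_dvd y).trans (card_dvd_of_le (cent_le_norm y)))
  rw [(cl3 h3 h1 h).1] at h2
  norm_num at h2

open Cfsg.Agent.H48.WFour in
theorem cent_w_part : ¬ 2 ^ 9 ∣ Nat.card (centralizer ({w} : Set Fi24)) := by
  classical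
  have := finite_Fi24
  have h1 := H840.Lk.card_conj (centralizer ({w} : Set Fi24)) (gen .l)
  set n := ({x | ∃ y ∈ centralizer ({w} : Set Fi24), y * gen .l * y⁻¹ = x} : Set Fi24).ncard with hn
  have h2 : n ≤ 6 := by
    let S : Finset Fi24 := {gen .l, gen .k, gen .l * gen .k * gen .l, zc, c2, zc * c2 * zc}
    have hS : S.card ≤ 6 := Finset.card_le_six
    rw [← Set.ncard_coe_finset] at hS
    refine (Set.ncard_le_ncard ?_ S.finite_toSet).trans hS
    rintro _ ⟨y, hy, rfl⟩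
    obtain ⟨k1, k2⟩ := six_of_comm (h := y) (mem_centralizer_singleton_iff.1 hy)
    simp only [S, Finset.coe_insert, Finset.coe_singleton, Set.mem_insert_iff, Set.mem_singleton_iff]
    rcases k2 with k2 | k2
    · rcases H840.NormX.inv_three fg (gen_mem .l) (gen_mem .k) k1 not_comm_lk k2 with h3 | h3 | h3
      · exact Or.inl h3
      · exact Or.inr (Or.inl h3)
      · exact Or.inr (Or.inr (Or.inl h3))
    · rcases H840.NormX.inv_three fg zc_mem c2_mem k1 nc_zc2 k2 with h3 | h3 | h3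
      · exact Or.inr (Or.inr (Or.inr (Or.inl h3)))
      · exact Or.inr (Or.inr (Or.inr (Or.inr (Or.inl h3))))
      · exact Or.inr (Or.inr (Or.inr (Or.inr (Or.inr h3))))
  have h3 : centralizer ({w} : Set Fi24) ⊓ centralizer ({gen .l} : Set Fi24) ≤ zpowers (zc * c2) ⊔ Cc := by
    rintro g ⟨hg1, hg2⟩
    have gw : Commute g w := mem_centralizer_singleton_iff.1 hg1
    have gl : Commute g (gen .l) := mem_centralizer_singleton_iff.1 hg2
    have gk : Commute g (gen .k) := by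
      rw [← w_l]
      exact (gw.mul_right gl).mul_right gw.inv_right
    have gz : Commute g (zc * c2) := by
      have h4 := (gl.mul_right gk).inv_right.mul_right gw
      rwa [w_eq, inv_mul_cancel_left] at h4
    obtain ⟨x, ⟨m, rfl⟩, u, hu, rfl⟩ := cent_mul fgroup24 zc_mem c2_mem nc_zc2 gz
    rw [mem_cent_pair] at hu
    refine mul_mem (mem_sup_left (zpow_mem_zpowers _ m)) (mem_sup_right ?_)
    rw [← H840.M500.cent_lkzc, mem_cent4]
    refine ⟨?_, ?_, hu.1, hu.2⟩
    · have h4 := ((lz.mul_right lc).zpow_right m).inv_right.mul_right gl.symm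
      rwa [inv_mul_cancel_left] at h4
    · have h4 := ((kz.mul_right kc).zpow_right m).inv_right.mul_right gk.symm
      rwa [inv_mul_cancel_left] at h4
  have h4 : zpowers (zc * c2) ≤ normalizer (Cc : Set Fi24) := by
    refine zp_le_norm fun a ha => ?_
    rw [← H840.M500.cent_lkzc, mem_cent4] at ha
    exact ha.2.2.1.mul_left ha.2.2.2
  have h5 := (card_dvd_of_le h3).trans (card_sup_dvd h4)
  rw [Nat.card_zpowers, H840.NormX.orderOf_mul (fd fgroup24) zc_mem c2_mem nc_zc2, H840.Lk.card_Cc] at h5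
  have h6 : 0 < n := by
    have h7 : 0 < Nat.card (centralizer ({w} : Set Fi24)) := Nat.card_pos
    rw [h1] at h7
    exact Nat.pos_of_mul_pos_right h7
  intro hd
  rw [h1] at hd
  have h7 := hd.trans (Nat.mul_dvd_mul_left n h5)
  interval_cases n <;> norm_num at h7

theorem cl_w : Cl 4 w := w_X

/-- **The 2-parts of the centralizers.** -/
theorem ct_two_part {y : Fi24} (h3 : y ^ 3 = 1) (h1 : y ≠ 1) (h : Cl 1 y ∨ Cl 3 y ∨ Cl 4 y) : ¬ 2 ^ 9 ∣ ct y := by
  rcases h with h | h | h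
  · exact ct_one_part h3 h1 h
  · exact ct_three_part h3 h1 h
  · rw [ct_cl h, ← ct_cl cl_w]
    exact fun hd => cent_w_part (hd.trans (ct_dvd w))

/-! ### Involutions inverting an element of order seven -/

/-- an involution of `Fi24'` with a conjugate such that the product has order 7 -/
def Sev (u : Fi24) : Prop :=
  u ∈ commutator Fi24 ∧ u * u = 1 ∧ ∃ c ∈ commutator Fi24, orderOf (u * (c * u * c⁻¹)) = 7

theorem Sev.conj {u : Fi24} (h : Sev u) (g : Fi24) : Sev (g * u * g⁻¹) := by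
  have hN : (commutator Fi24).Normal := inferInstance
  obtain ⟨h1, h2, c, h3, h4⟩ := h
  refine ⟨hN.conj_mem u h1 g, ?_, g * c * g⁻¹, hN.conj_mem c h3 g, ?_⟩
  · calc g * u * g⁻¹ * (g * u * g⁻¹) = g * (u * u) * g⁻¹ := by group
      _ = 1 := by rw [h2]; group
  · rw [← h4, show g * u * g⁻¹ * (g * c * g⁻¹ * (g * u * g⁻¹) * (g * c * g⁻¹)⁻¹) = g * (u * (c * u * c⁻¹)) * g⁻¹ by group]
    exact orderOf_injective (MulAut.conj g).toMonoidHom (MulAut.conj g).injective _

theorem sq_mem (g : Fi24) : g * g ∈ commutator Fi24 := mul_self_mem_of_index_two index_commutator g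

theorem sev_of {n : ℕ} (f : Perm (Fin n) →* Fi24) (hf : Function.Injective f) {u v c : Perm (Fin n)} (h1 : u = v * v)
    (h2 : u * u = 1) (h7 : (u * (c * c * u * (c * c)⁻¹)) ^ 7 = 1) (h0 : u * (c * c * u * (c * c)⁻¹) ≠ 1) : Sev (f u) := by
  have : Fact (Nat.Prime 7) := ⟨by norm_num⟩
  refine ⟨by rw [h1, map_mul]; exact sq_mem _, by rw [← map_mul, h2, map_one], f (c * c), by rw [map_mul]; exact sq_mem _, ?_⟩
  rw [← map_inv, ← map_mul, ← map_mul, ← map_mul, orderOf_injective f hf, orderOf_eq_prime h7 h0]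

theorem sev_tet {u a b c d : Fi24} (h : IsTet L u a b c d) : Sev u := by
  obtain ⟨g, -, e1, e2, e3, e4⟩ := R08.TetBig.quad R08.TetBigInst.hyp NL.F24.tet h
  have e : u = g * H841.Five.Phi (swap 1 6 * swap 2 5 * swap 3 4 * swap 7 8) * g⁻¹ := by
    rw [← h.prod, ← e1, ← e2, ← e3, ← e4]
    delta NL.F24.d
    simp only [map_mul]
    group
  rw [e]
  exact (sev_of _ H841.Five.Phi_injective (v := swap 1 6 * swap 1 2 * swap 6 5 * (swap 3 4 * swap 3 7 * swap 4 8))
    (c := NL.F24.c7) (by decide) (by decide) (by decide) (by decide)).conj g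

/-- the path `l k a b c d e f g j` -/
def pth : Fin 10 → Gen := ![.l, .k, .a, .b, .c, .d, .e, .f, .g, .j]

theorem exists_s11 : ∃ f : Perm (Fin 11) →* Fi24, (∀ i : Fin 10, f (swap i.castSucc i.succ) = gen (pth i)) ∧
    Function.Injective f := by
  obtain ⟨f, h1, -, h2⟩ := H838.Sym.exists_equiv (n := 10) (by norm_num) (fun i => gen (pth i))
    (fun i => R08.FiTwentyFour.sq (gen_mem _))
    (fun i j h => Fischer.Fi24Class.gen_braid _ _ (by revert i j; decide))
    (fun i j h => gcm (by revert i j; decide))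
    (fun h => not_comm_lk (by
      have h' : gen .l = gen .k := h
      rw [h']))
  exact ⟨f, h1, h2⟩

theorem sev_one_three : ∃ u, Sev u ∧ Commute u (X 1) ∧ Commute u (X 3) := by
  obtain ⟨f, h1, h2⟩ := exists_s11
  have el : gen .l = f (swap 0 1) := (h1 0).symm
  have ek : gen .k = f (swap 1 2) := (h1 1).symm
  have eb : gen .b = f (swap 3 4) := (h1 3).symm
  have ec : gen .c = f (swap 4 5) := (h1 4).symm
  have ee : gen .e = f (swap 6 7) := (h1 6).symm
  have ef : gen .f = f (swap 7 8) := (h1 7).symm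
  refine ⟨f (swap 0 3 * swap 1 4 * swap 2 5 * swap 9 10), sev_of f h2
    (v := swap 0 3 * swap 0 1 * swap 3 4 * (swap 2 5 * swap 2 9 * swap 5 10))
    (c := swap 0 1 * swap 1 2 * swap 2 6 * swap 6 5 * swap 5 4 * swap 4 3) (by decide) (by decide) (by decide) (by decide),
    ?_, ?_⟩
  · rw [X_one, el, ek, eb, ec, ← map_mul, ← map_mul, ← map_mul]
    exact Commute.map (by rw [Commute, SemiconjBy]; decide) f
  · rw [X_three, el, ek, eb, ec, ee, ef, ← map_mul, ← map_mul, ← map_mul, ← map_mul, ← map_mul]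
    exact Commute.map (by rw [Commute, SemiconjBy]; decide) f

open Cfsg.Agent.H48.WFour in
theorem sev_w : ∃ u, Sev u ∧ Commute u w := by
  have := finite_Fi24
  have : Fact (Nat.Prime 2) := ⟨Nat.prime_two⟩
  have h6 := card_eq_mul (inf_le_right : commutator Fi24 ⊓ Cc ≤ Cc)
  rw [inf_relIndex_right, H840.Lk.card_Cc] at h6
  have h7 := Nat.le_of_dvd (by norm_num) (index_commutator ▸ relIndex_dvd_index_of_normal (commutator Fi24) Cc)
  have h8 : 2 ∣ Nat.card (commutator Fi24 ⊓ Cc : Subgroup Fi24) := by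
    generalize (commutator Fi24).relIndex Cc = r at h6 h7
    interval_cases r <;> omega
  obtain ⟨⟨u, hu0⟩, hu⟩ := exists_prime_orderOf_dvd_card' 2 h8
  rw [Subgroup.orderOf_mk] at hu
  obtain ⟨hu1, hu2⟩ := mem_inf.1 hu0
  rw [← H840.M500.cent_lkzc, mem_cent4] at hu2
  obtain ⟨c1, c2', c3, c4⟩ := hu2
  refine ⟨u, ?_, by rw [w_eq]; exact ((c1.mul_left c2').mul_left (c3.mul_left c4)).symm⟩
  rcases R08.TetFi24C.facts.invol u hu1 (by rw [← pow_two, ← hu, pow_orderOf_eq_one])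
    (fun e => by rw [e, orderOf_one] at hu; omega) with ⟨a, ha, b, hb, nab, cab, rfl⟩ | ⟨a, b, c, d, h⟩
  · have k : ∀ t ∈ L, Commute t (a * b) → Commute t a := fun t ht h =>
      (R08.TetBasic.comm_of_comm_mul R08.TetFi24A.tr ha hb ht cab nab h).1
    refine absurd ?_ (width ha)
    rw [w_eq]
    exact ((k _ (gen_mem .l) c1).mul_left (k _ (gen_mem .k) c2')).mul_left ((k _ zc_mem c3).mul_left (k _ c2_mem c4))
  · exact sev_tet h

theorem sev_cl {i : Fin 5} {y y' : Fi24} (h : Cl i y) (h' : Cl i y') (hu : ∃ u, Sev u ∧ Commute u y') :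
    ∃ u, Sev u ∧ Commute u y := by
  obtain ⟨u, h1, h2⟩ := hu
  obtain ⟨g, hg⟩ := h
  obtain ⟨k, hk⟩ := h'
  have h3 : Commute (k * u * k⁻¹) (X i) := by
    rcases hk with hk | hk
    · rw [← hk]; exact comm_conj' h2
    · rw [← Commute.inv_right_iff, ← hk]; exact comm_conj' h2
  refine ⟨g⁻¹ * (k * u * k⁻¹) * g⁻¹⁻¹, (h1.conj k).conj g⁻¹, ?_⟩
  rw [← comm_conj (h := g), show g * (g⁻¹ * (k * u * k⁻¹) * g⁻¹⁻¹) * g⁻¹ = k * u * k⁻¹ by group]
  rcases hg with hg | hg
  · rwa [hg]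
  · rw [hg]; exact h3.inv_right

/-- **The classes `X 1`, `X 3`, `X 4` commute with an involution inverting an element of order 7.** -/
theorem exists_sev {y : Fi24} (h : Cl 1 y ∨ Cl 3 y ∨ Cl 4 y) : ∃ u, Sev u ∧ Commute u y := by
  obtain ⟨u, h1, h2, h3⟩ := sev_one_three
  rcases h with h | h | h
  · exact sev_cl h (cl_X 1) ⟨u, h1, h2⟩
  · exact sev_cl h (cl_X 3) ⟨u, h1, h3⟩
  · exact sev_cl h cl_w sev_w

/-! ### The class `X 2` -/

/-- **The class `X 2`**: a 3-subgroup with centralizer `⟨y⟩`. -/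
theorem exists_Q {y : Fi24} (h : Cl 2 y) : ∃ Q : Subgroup Fi24, (∀ q ∈ Q, q ^ 3 = 1) ∧
    ∀ g : Fi24, (∀ q ∈ Q, Commute g q) → g ∈ zpowers y := by
  obtain ⟨φ, hφ, k1, k2⟩ := cl2 h
  have e := H841.InjTr.es_map φ H841.Tri.es_QQ hφ
  rw [k2] at e
  refine ⟨_, e.cub, fun g hg => ?_⟩
  have h1 : g ∈ φ.range := by
    rw [k1]
    exact cent_le_norm y (mem_centralizer_singleton_iff.2 (hg y (e.le (mem_zpowers y))))
  obtain ⟨n, rfl⟩ := h1
  refine e.nd _ ⟨n, H841.Tri.cent_QQ (mem_centralizer_iff.2 fun q hq => hφ ?_), rfl⟩ hg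
  rw [map_mul, map_mul]
  exact (hg _ ⟨q, hq, rfl⟩).symm

/-! ### Two commuting elements of the class `X 0` -/

theorem mul_cases {s t c d : Fi24} (hs : s ∈ L) (ht : t ∈ L) (hc : c ∈ L) (hd : d ∈ L) (hst : ¬ Commute s t)
    (hcd : ¬ Commute c d) (h : closure ({c, d} : Set Fi24) = closure ({s, t} : Set Fi24)) :
    c * d = s * t ∨ c * d = (s * t)⁻¹ := by
  have h1 : c * d ∈ closure ({s, t} : Set Fi24) := h ▸ mul_mem (H840.NormX.a_mem c d) (H840.NormX.b_mem c d)
  rcases H68.Dih.mem_or (R08.FiTwentyFour.sq hs) (R08.FiTwentyFour.sq ht) h1 with h2 | h2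
  · rcases (H841.Tri.mem_zp3 (H840.NormX.cube (fd fgroup24) hs ht hst)).1 h2 with h3 | h3
    · have h4 := H840.NormX.orderOf_mul (fd fgroup24) hc hd hcd
      rw [h3, orderOf_one] at h4
      omega
    · exact h3
  · have h3 := zpowers_le.2 (R08.FiTwentyFour.mul_mem_commutator hs ht) h2
    rw [mem_commutator_iff, map_mul, map_mul, sgn_L hc, sgn_L hd, sgn_L hs] at h3
    exact absurd h3 (by decide)

open Cfsg.Agent.H48.WFour in
theorem two_cases {a b c d : Fi24} (ha : a ∈ L) (hb : b ∈ L) (hc : c ∈ L) (hd : d ∈ L) (hab : ¬ Commute a b)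
    (hcd : ¬ Commute c d) (h1 : Commute a c) (h2 : Commute b c) (h3 : Commute a d) (h4 : Commute b d) :
    (∃ g : Fi24, g * (a * b * (c * d)) * g⁻¹ = gen .l * gen .k * (zc * gen .j)) ∨
      ∃ g : Fi24, g * (a * b * (c * d)) * g⁻¹ = w := by
  have := finite_Fi24
  obtain ⟨g, hg1, hg2⟩ := H840.Lk.noncomm_trans ha hb (gen_mem .l) (gen_mem .k) hab not_comm_lk
  obtain ⟨k, hk, hkk⟩ := H840.M500.conj_cases (R08.FiTwentyFour.conj hc g) (R08.FiTwentyFour.conj hd g)
    (hg1 ▸ comm_conj' h1) (hg2 ▸ comm_conj' h2) (hg1 ▸ comm_conj' h3) (hg2 ▸ comm_conj' h4)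
    (fun h => hcd (comm_conj.1 h))
  rw [H840.M500.map_conj] at hkk
  have e : ∀ t : Fi24, k * (g * t * g⁻¹) * k⁻¹ = k * g * t * (k * g)⁻¹ := fun t => by group
  have ea : k * g * a * (k * g)⁻¹ = gen .l := by
    rw [← e, hg1, (H840.Lk.mem_Clk.1 hk).1]; group
  have eb : k * g * b * (k * g)⁻¹ = gen .k := by
    rw [← e, hg2, (H840.Lk.mem_Clk.1 hk).2]; group
  rw [e, e] at hkk
  have key : ∀ t ∈ L, closure ({k * g * c * (k * g)⁻¹, k * g * d * (k * g)⁻¹} : Set Fi24) = closure {zc, t} →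
      ∃ g : Fi24, g * (a * b * (c * d)) * g⁻¹ = gen .l * gen .k * (zc * t) := by
    intro t ht h
    have hcd' : ¬ Commute (k * g * c * (k * g)⁻¹) (k * g * d * (k * g)⁻¹) := fun h => hcd (comm_conj.1 h)
    have hn : ¬ Commute zc t := by
      intro hc'
      have h5 : closure ({zc, t} : Set Fi24) ≤ centralizer ({zc, t} : Set Fi24) := by
        rw [closure_le]
        rintro x (rfl | rfl)
        · exact mem_cent_pair.2 ⟨Commute.refl _, hc'.symm⟩
        · exact mem_cent_pair.2 ⟨hc', Commute.refl _⟩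
      have h6 := h5 (h ▸ H840.NormX.a_mem _ _)
      rw [← centralizer_closure, ← h, centralizer_closure] at h6
      exact hcd' (mem_cent_pair.1 h6).2.symm
    have e1 : k * g * (a * b * (c * d)) * (k * g)⁻¹ =
        gen .l * gen .k * (k * g * c * (k * g)⁻¹ * (k * g * d * (k * g)⁻¹)) := by
      rw [← ea, ← eb]; group
    rcases mul_cases zc_mem ht (R08.FiTwentyFour.conj hc _) (R08.FiTwentyFour.conj hd _) hn hcd' h with h5 | h5
    · exact ⟨k * g, by rw [e1, h5]⟩
    · refine ⟨zc * (k * g), ?_⟩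
      have h6 := H840.NormX.left_inverts (fd fgroup24) zc_mem ht
      have h7 : Commute zc (gen .l * gen .k) := (lz.mul_left kz).symm
      calc zc * (k * g) * (a * b * (c * d)) * (zc * (k * g))⁻¹
          = zc * (k * g * (a * b * (c * d)) * (k * g)⁻¹) * zc⁻¹ := by group
        _ = zc * (gen .l * gen .k) * zc⁻¹ * (zc * (zc * t) * zc⁻¹)⁻¹ := by rw [e1, h5]; group
        _ = _ := by rw [h6, h7.eq]; group
  rcases hkk with h | h
  · exact Or.inl (key _ (gen_mem .j) h)
  · exact Or.inr (w_eq ▸ key _ c2_mem h)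

theorem cl_two {a b c d : Fi24} (ha : a ∈ L) (hb : b ∈ L) (hc : c ∈ L) (hd : d ∈ L) (hab : ¬ Commute a b)
    (hcd : ¬ Commute c d) (h1 : Commute a c) (h2 : Commute b c) (h3 : Commute a d) (h4 : Commute b d) :
    ¬ Cl 0 (a * b * (c * d)) := by
  intro h0
  rcases two_cases ha hb hc hd hab hcd h1 h2 h3 h4 with ⟨g, hg⟩ | ⟨g, hg⟩
  · rcases two_cases (gen_mem .l) (gen_mem .k) (gen_mem .b) (gen_mem .c) not_comm_lk nc_bc (gcm (by decide))
      (gcm (by decide)) (gcm (by decide)) (gcm (by decide)) with ⟨k, hk⟩ | ⟨k, hk⟩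
    · have h5 := (cl_X 1).conj k
      rw [X_one, hk, ← hg] at h5
      exact absurd (Cl_uniq (h0.conj g) h5) (by decide)
    · have h5 := (cl_X 1).conj k
      rw [X_one, hk] at h5
      exact absurd (Cl_uniq cl_w h5) (by decide)
  · have h5 := h0.conj g
    rw [hg] at h5
    exact absurd (Cl_uniq cl_w h5) (by decide)

/-- **No group of order nine consists of elements of the class `X 0`.** -/
theorem pure_lt {E : Subgroup Fi24} (hp : ∀ x ∈ E, x ^ 3 = 1) (hcm : ∀ x ∈ E, ∀ y ∈ E, x * y = y * x)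
    (h0 : ∀ x ∈ E, x ≠ 1 → Cl 0 x) : Nat.card E ≤ 3 := by
  have := finite_Fi24
  by_contra h9
  have hne : E ≠ ⊥ := by
    rintro rfl
    rw [card_bot] at h9
    omega
  obtain ⟨⟨x, hx⟩, hx1⟩ := ne_bot_iff_exists_ne_one.1 hne
  have hx1' : x ≠ 1 := fun h => hx1 (Subtype.ext h)
  obtain ⟨a, ha, b, hb, hab, rfl⟩ := cl0 (h0 x hx hx1')
  have hnle : ¬ E ≤ zpowers (a * b) := by
    intro h
    have h1 := card_le_of_le h
    rw [card_zp (hp _ hx) hx1'] at h1
    omega
  obtain ⟨y, hy, hy'⟩ := SetLike.not_le_iff_exists.1 hnle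
  obtain ⟨z, hz, u, hu, rfl⟩ := cent_mul fgroup24 ha hb hab (show Commute y (a * b) from hcm y hy _ hx)
  have huE : u ∈ E := by
    have h1 := E.mul_mem (E.inv_mem (zpowers_le.2 hx hz)) hy
    rwa [inv_mul_cancel_left] at h1
  have hu1 : u ≠ 1 := by
    rintro rfl
    exact hy' (by rwa [mul_one])
  obtain ⟨c, hc, d, hd, hcd, rfl⟩ := cl0 (h0 u huE hu1)
  rw [mem_cent_pair] at hu
  have k1 := comm_of_comm_mul fgroup24 hc hd ha hcd hu.1
  have k2 := comm_of_comm_mul fgroup24 hc hd hb hcd hu.2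
  refine cl_two ha hb hc hd hab hcd k1.1 k2.1 k1.2 k2.2 (h0 _ (E.mul_mem hx huE) fun e => hy' ?_)
  rw [eq_inv_of_mul_eq_one_right e]
  exact mul_mem hz (inv_mem (mem_zpowers _))

end Cfsg.Agent.SP.Mon.PA
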